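import Groth.Agent.TanSmooth.Local
import Groth.Agent.Omega.SmoothFibreDim
import Groth.Agent.Omega.StalkSmooth
import Groth.Agent.VarDim.Scheme
import Groth.Agent.S2768
import Groth.Agent.S4992
import Groth.Agent.CycLib.FibreDim
import Groth.Prelude.Def_FixPt
import Mathlib.AlgebraicGeometry.AlgClosed.Basic

/-!
# Smoothness of morphisms of smooth varieties through cotangent maps at closed points
-/

set_option autoImplicit false
set_option backward.isDefEq.respectTransparency.types false

universe u

open CategoryTheory CategoryTheory.Limits AlgebraicGeometry TopologicalSpace IsLocalRing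

namespace Groth.Agent.TanSmooth

section Const

variable {k : Type u} [Field k]

/-- the stalk of `Spec k` -/
noncomputable def constStalk (p : Spec (CommRingCat.of k)) :
    k →+* (Spec (CommRingCat.of k)).presheaf.stalk p :=
  ((Scheme.ΓSpecIso (CommRingCat.of k)).inv ≫ (Spec (CommRingCat.of k)).presheaf.germ ⊤ p trivial).hom

theorem constStalk_bijective (p : Spec (CommRingCat.of k)) : Function.Bijective (constStalk p) := by
  let T : (Spec (CommRingCat.of k)).Opens := ⊤
  have hT : IsAffineOpen T := isAffineOpen_top _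
  have hF : IsField Γ(Spec (CommRingCat.of k), T) :=
    MulEquiv.isField (Field.toIsField k) (Scheme.ΓSpecIso (CommRingCat.of k)).commRingCatIsoToRingEquiv.toMulEquiv
  letI := (Spec (CommRingCat.of k)).presheaf.algebra_section_stalk (⟨p, trivial⟩ : T)
  haveI := hT.isLocalization_stalk ⟨p, trivial⟩
  have h : Function.Bijective (algebraMap Γ(Spec (CommRingCat.of k), T)
      ((Spec (CommRingCat.of k)).presheaf.stalk ((⟨p, trivial⟩ : T) : Spec (CommRingCat.of k)))) :=
    IsField.localization_map_bijective (M := (hT.primeIdealOf ⟨p, trivial⟩).asIdeal.primeCompl)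
      (fun h => h (Ideal.zero_mem _)) hF
  exact h.comp (Scheme.ΓSpecIso (CommRingCat.of k)).commRingCatIsoToRingEquiv.symm.bijective

variable {X : Scheme.{u}} (q : X ⟶ Spec (CommRingCat.of k)) (x : X)

/-- the constants in a local ring of a `k`-scheme -/
noncomputable def algK : k →+* X.presheaf.stalk x := (q.stalkMap x).hom.comp (constStalk (q x))

theorem algK_formallySmooth [Smooth q] : (algK q x).FormallySmooth := by
  letI a1 : Algebra k ((Spec (CommRingCat.of k)).presheaf.stalk (q x)) := (constStalk (q x)).toAlgebra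
  letI a2 := (q.stalkMap x).hom.toAlgebra
  letI a3 : Algebra k (X.presheaf.stalk x) := (algK q x).toAlgebra
  haveI : IsScalarTower k ((Spec (CommRingCat.of k)).presheaf.stalk (q x)) (X.presheaf.stalk x) :=
    IsScalarTower.of_algebraMap_eq' rfl
  haveI : Algebra.FormallySmooth k ((Spec (CommRingCat.of k)).presheaf.stalk (q x)) :=
    Algebra.FormallySmooth.of_equiv (AlgEquiv.ofBijective (Algebra.ofId k _) (constStalk_bijective (q x)))
  haveI := Omega.StalkSmooth.formallySmooth_stalkMap_of_smooth q x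
  exact Algebra.FormallySmooth.comp k ((Spec (CommRingCat.of k)).presheaf.stalk (q x)) _

theorem algK_essFiniteType [LocallyOfFiniteType q] : (algK q x).EssFiniteType := by
  letI a1 : Algebra k ((Spec (CommRingCat.of k)).presheaf.stalk (q x)) := (constStalk (q x)).toAlgebra
  letI a2 := (q.stalkMap x).hom.toAlgebra
  letI a3 : Algebra k (X.presheaf.stalk x) := (algK q x).toAlgebra
  haveI : IsScalarTower k ((Spec (CommRingCat.of k)).presheaf.stalk (q x)) (X.presheaf.stalk x) :=
    IsScalarTower.of_algebraMap_eq' rfl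
  haveI : Algebra.EssFiniteType ((Spec (CommRingCat.of k)).presheaf.stalk (q x)) (X.presheaf.stalk x) :=
    RingHom.essFiniteType_algebraMap.mp (LocallyOfFiniteType.stalkMap q x)
  haveI : Algebra.FiniteType k ((Spec (CommRingCat.of k)).presheaf.stalk (q x)) :=
    Algebra.FiniteType.equiv inferInstance (AlgEquiv.ofBijective (Algebra.ofId k _) (constStalk_bijective (q x)))
  exact Algebra.EssFiniteType.comp k ((Spec (CommRingCat.of k)).presheaf.stalk (q x)) _

theorem algK_residue_surjective_aux (p : Spec (CommRingCat.of k) ⟶ X) [IsIso (p ≫ q)]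
    (c : Spec (CommRingCat.of k)) :
    Function.Surjective ((residue (X.presheaf.stalk (p c))).comp (algK q (p c))) := by
  have hbij : Function.Bijective ((p ≫ q).stalkMap c).hom :=
    ConcreteCategory.bijective_of_isIso ((p ≫ q).stalkMap c)
  intro z
  obtain ⟨a, rfl⟩ := residue_surjective z
  obtain ⟨b, hb⟩ := hbij.2 ((p.stalkMap c).hom a)
  obtain ⟨s, rfl⟩ := (constStalk_bijective ((p ≫ q) c)).2 b
  refine ⟨s, ?_⟩
  rw [RingHom.comp_apply, ← sub_eq_zero, ← map_sub, residue_eq_zero_iff, mem_maximalIdeal, mem_nonunits_iff]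
  intro hu
  have h := hu.map (p.stalkMap c).hom
  rw [map_sub] at h
  have e : (p.stalkMap c).hom (algK q (p c) s) = (p.stalkMap c).hom a := by
    rw [← hb, Scheme.Hom.stalkMap_comp]
    rfl
  rw [e, sub_self] at h
  exact not_isUnit_zero h

variable [IsAlgClosed k] [LocallyOfFiniteType q]

theorem algK_residue_surjective (hx : IsClosed ({x} : Set X)) :
    Function.Surjective ((residue (X.presheaf.stalk x)).comp (algK q x)) := by
  have : IsIso (pointOfClosedPoint q x hx ≫ q) := by rw [pointOfClosedPoint_comp]; infer_instance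
  have h := algK_residue_surjective_aux q (pointOfClosedPoint q x hx) (closedPoint k)
  rwa [pointOfClosedPoint_apply] at h

end Const

theorem stalkMapAt_rfl {A X : Scheme.{u}} (f : A ⟶ X) (z : A) :
    FixPt.stalkMapAt f z (f z) rfl = (f.stalkMap z).hom := by
  simp [FixPt.stalkMapAt]

theorem cotangentMapAt_injective_iff {A X : Scheme.{u}} (f : A ⟶ X) (z : A) :
    Function.Injective (FixPt.cotangentMapAt f z (f.base z) rfl) ↔
      ∀ a ∈ maximalIdeal (X.presheaf.stalk (f z)), (f.stalkMap z).hom a ∈ maximalIdeal (A.presheaf.stalk z) ^ 2 →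
        a ∈ maximalIdeal (X.presheaf.stalk (f z)) ^ 2 := by
  rw [injective_iff_map_eq_zero]
  constructor
  · intro h a ha ha2
    refine (Ideal.toCotangent_eq_zero _ ⟨a, ha⟩).1 (h _ ?_)
    refine (Ideal.toCotangent_eq_zero _ _).2 ?_
    show FixPt.stalkMapAt f z (f z) rfl a ∈ _
    rwa [stalkMapAt_rfl]
  · intro h w hw
    obtain ⟨⟨a, ha⟩, rfl⟩ := Ideal.toCotangent_surjective _ w
    refine (Ideal.toCotangent_eq_zero _ _).2 (h a ha ?_)
    have h2 := (Ideal.toCotangent_eq_zero _ _).1 hw
    rw [← stalkMapAt_rfl]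
    exact h2

section Main

variable {k : Type u} [Field k] [IsAlgClosed k] {X Y : Scheme.{u}} (f : X ⟶ Y)
  (qY : Y ⟶ Spec (CommRingCat.of k)) [LocallyOfFiniteType qY] [Smooth qY] [Smooth (f ≫ qY)] [IsSeparated qY]
  [LocallyOfFiniteType (f ≫ qY)]

include qY in
theorem isClosed_image (x : X) (hx : IsClosed ({x} : Set X)) : IsClosed ({f x} : Set Y) := by
  let p := pointOfClosedPoint (f ≫ qY) x hx
  have hp : (p ≫ f) ≫ qY = 𝟙 _ := by rw [Category.assoc]; exact pointOfClosedPoint_comp (f ≫ qY) x hx
  have := isClosedImmersion_of_comp_eq_id qY (p ≫ f) hp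
  have h := (p ≫ f).isClosedEmbedding.isClosed_range
  have : Set.range (p ≫ f) = {f x} := by
    ext y
    constructor
    · rintro ⟨c, rfl⟩
      rw [Scheme.Hom.comp_apply, pointOfClosedPoint_apply]
      rfl
    · rintro rfl
      exact ⟨closedPoint k, by rw [Scheme.Hom.comp_apply, pointOfClosedPoint_apply]⟩
  rwa [this] at h

include qY in
theorem mem_smoothLocus_iff [LocallyOfFinitePresentation f] (x : X) (hx : IsClosed ({x} : Set X)) :
    x ∈ f.smoothLocus ↔ Function.Injective (FixPt.cotangentMapAt f x (f.base x) rfl) := by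
  rw [cotangentMapAt_injective_iff]
  letI a1 : Algebra k (Y.presheaf.stalk (f x)) := (algK qY (f x)).toAlgebra
  letI a2 := (f.stalkMap x).hom.toAlgebra
  letI a3 : Algebra k (X.presheaf.stalk x) := (algK (f ≫ qY) x).toAlgebra
  haveI : IsScalarTower k (Y.presheaf.stalk (f x)) (X.presheaf.stalk x) :=
    IsScalarTower.of_algebraMap_eq fun c => by
      show ((f ≫ qY).stalkMap x).hom (constStalk ((f ≫ qY) x) c) =
        (f.stalkMap x).hom ((qY.stalkMap (f x)).hom (constStalk (qY (f x)) c))
      rw [Scheme.Hom.stalkMap_comp]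
      rfl
  haveI : IsLocalHom (algebraMap (Y.presheaf.stalk (f x)) (X.presheaf.stalk x)) :=
    inferInstanceAs (IsLocalHom (f.stalkMap x).hom)
  haveI : Algebra.FormallySmooth k (Y.presheaf.stalk (f x)) := algK_formallySmooth qY (f x)
  haveI : Algebra.FormallySmooth k (X.presheaf.stalk x) := algK_formallySmooth (f ≫ qY) x
  haveI : Algebra.EssFiniteType k (Y.presheaf.stalk (f x)) := algK_essFiniteType qY (f x)
  haveI : Algebra.EssFiniteType k (X.presheaf.stalk x) := algK_essFiniteType (f ≫ qY) x
  have hR : Function.Surjective (algebraMap k (ResidueField (Y.presheaf.stalk (f x)))) :=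
    algK_residue_surjective qY (f x) (isClosed_image f qY x hx)
  have hS : Function.Surjective (algebraMap k (ResidueField (X.presheaf.stalk x))) :=
    algK_residue_surjective (f ≫ qY) x hx
  constructor
  · intro h
    haveI : Algebra.FormallySmooth (Y.presheaf.stalk (f x)) (X.presheaf.stalk x) := h
    exact injective_of_formallySmooth k (Y.presheaf.stalk (f x)) (X.presheaf.stalk x) hR hS
  · intro h
    exact formallySmooth_of_injective k (Y.presheaf.stalk (f x)) (X.presheaf.stalk x) hR hS h

include qY in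
theorem locallyOfFinitePresentation : LocallyOfFinitePresentation f := by
  have : IsLocallyNoetherian Y := LocallyOfFiniteType.isLocallyNoetherian qY
  have : LocallyOfFiniteType f := locallyOfFiniteType_of_comp f qY
  exact LocallyOfFinitePresentation.iff_locallyOfFiniteType.mpr inferInstance

include qY in
theorem smooth_of_injective
    (h : ∀ x : X, IsClosed ({x} : Set X) → Function.Injective (FixPt.cotangentMapAt f x (f.base x) rfl)) :
    Smooth f := by
  have := locallyOfFinitePresentation f qY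
  have := LocallyOfFiniteType.jacobsonSpace (f ≫ qY)
  rw [← Scheme.Hom.smoothLocus_eq_top_iff, ← Opens.coe_eq_univ, ← not_ne_iff, ← Set.nonempty_compl]
  intro H
  obtain ⟨x, hx, hxc⟩ := nonempty_inter_closedPoints H f.smoothLocus.2.isClosed_compl.isLocallyClosed
  exact hx ((mem_smoothLocus_iff f qY x hxc).2 (h x hxc))

include qY in
theorem injective_of_smooth [Smooth f] (x : X) (hx : IsClosed ({x} : Set X)) :
    Function.Injective (FixPt.cotangentMapAt f x (f.base x) rfl) := by
  have := locallyOfFinitePresentation f qY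
  exact (mem_smoothLocus_iff f qY x hx).1 (f.smoothLocus_eq_top.ge (Set.mem_univ x))

end Main

section Dim

theorem fibreDimAt_of_field {k : Type u} [Field k] {X : Scheme.{u}} (q : X ⟶ Spec (CommRingCat.of k))
    (x : X) : FlatMor.fibreDimAt q x = FlatMor.localDim X x := by
  rw [FlatMisc.FibreDimScheme.fibreDimAt_eq]
  have hu : (q ⁻¹' {q x}) = Set.univ := Set.eq_univ_of_forall fun y =>
    show q y = q x from Subsingleton.elim (α := PrimeSpectrum k) _ _
  let e : ↥(q ⁻¹' {q x}) ≃ₜ X := (Homeomorph.setCongr hu).trans (Homeomorph.Set.univ X)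
  exact le_antisymm (FlatMisc.FibreDimScheme.localDim_homeo e.symm x)
    (FlatMisc.FibreDimScheme.localDim_homeo e ⟨x, rfl⟩)

theorem localDim_of_irreducible {k : Type u} [Field k] {X : Scheme.{u}} [IrreducibleSpace X]
    (q : X ⟶ Spec (CommRingCat.of k)) [LocallyOfFiniteType q] (x : X) :
    FlatMor.localDim X x = topologicalKrullDim X := by
  letI : X.Over (Spec (CommRingCat.of k)) := ⟨q⟩
  haveI : LocallyOfFiniteType (X ↘ Spec (CommRingCat.of k)) := ‹LocallyOfFiniteType q›
  refine le_antisymm (iInf_le_of_le ⟨⊤, trivial⟩ ?_) (le_iInf fun U => ?_)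
  · exact Topology.IsInducing.subtypeVal.topologicalKrullDim_le
  · rw [VarDim.topologicalKrullDim_eq_of_irreducible k]
    exact VarDim.le_topologicalKrullDim_opens k U.1 U.2 (genericPoint_specializes x)

theorem smoothOfRelativeDimension_of_fibreDim {X Y : Scheme.{u}} (f : X ⟶ Y) [Smooth f] (n : ℕ)
    (h : ∀ x : X, FlatMor.fibreDimAt f x = (n : WithBot ℕ∞)) : SmoothOfRelativeDimension n f := by
  refine ⟨fun x => ?_⟩
  obtain ⟨U, hU, V, hV, hx, e, hf⟩ := Smooth.exists_isStandardSmooth (f := f) x
  refine ⟨U, hU, V, hV, hx, e, ?_⟩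
  letI := (f.appLE U V e).hom.toAlgebra
  haveI : Algebra.IsStandardSmooth Γ(Y, U) Γ(X, V) := hf
  obtain ⟨Q, hQ⟩ := Omega.SmoothFibreDim.exists_pt hV hx
  haveI : Nontrivial Γ(X, V) := Q.nontrivial
  show Algebra.IsStandardSmoothOfRelativeDimension n Γ(Y, U) Γ(X, V)
  rw [Algebra.IsStandardSmoothOfRelativeDimension.iff_of_isStandardSmooth, ← Module.finrank_eq_rank, Nat.cast_inj]
  have h1 := h x
  rw [← hQ, ← Omega.SmoothFibreDim.fibreDimAt_appLE f hU hV e Q] at h1
  have hs : Spec.map (f.appLE U V e) = Spec.map (CommRingCat.ofHom (algebraMap Γ(Y, U) Γ(X, V))) := rfl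
  rw [hs, Omega.SmoothFibreDim.fibreDimAt_spec Γ(Y, U) Γ(X, V) Q, Module.rankAtStalk_eq_finrank_of_free] at h1
  exact_mod_cast h1

variable {k : Type u} [Field k] {X Y : Scheme.{u}} (f : X ⟶ Y) (qY : Y ⟶ Spec (CommRingCat.of k))
  [Smooth qY] [Smooth f] [IrreducibleSpace X] [IrreducibleSpace Y]

include qY in
theorem fibreDimAt_add (dX dY : ℕ) (hX : topologicalKrullDim X = dX) (hY : topologicalKrullDim Y = dY) (x : X) :
    ∃ m : ℕ, FlatMor.fibreDimAt f x = (m : WithBot ℕ∞) ∧ m + dY = dX := by
  have h := S4992.result f qY x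
  rw [fibreDimAt_of_field, fibreDimAt_of_field, localDim_of_irreducible (f ≫ qY), localDim_of_irreducible qY,
    hX, hY] at h
  obtain ⟨U, hU, V, hV, hx, e, hf⟩ := Smooth.exists_isStandardSmooth (f := f) x
  letI := (f.appLE U V e).hom.toAlgebra
  haveI : Algebra.IsStandardSmooth Γ(Y, U) Γ(X, V) := hf
  obtain ⟨Q, hQ⟩ := Omega.SmoothFibreDim.exists_pt hV hx
  have h1 : FlatMor.fibreDimAt f x = ((Module.rankAtStalk (R := Γ(X, V)) Ω[Γ(X, V)⁄Γ(Y, U)] Q : ℕ) : WithBot ℕ∞) := by
    rw [← hQ, ← Omega.SmoothFibreDim.fibreDimAt_appLE f hU hV e Q]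
    exact Omega.SmoothFibreDim.fibreDimAt_spec Γ(Y, U) Γ(X, V) Q
  refine ⟨_, h1, ?_⟩
  rw [h1] at h
  exact_mod_cast h.symm

end Dim

end Groth.Agent.TanSmooth

namespace Groth.Agent.TanSmooth

theorem topologicalKrullDim_component {L : Type u} [Field L] {F : Scheme.{u}} (g : F ⟶ Spec (CommRingCat.of L))
    [LocallyOfFiniteType g] (n : ℕ) [SmoothOfRelativeDimension n g] (Z : Set F)
    (hZ : Z ∈ irreducibleComponents ↥F) : topologicalKrullDim ↥Z = (n : WithBot ℕ∞) := by
  obtain ⟨z, hz⟩ := QuasiSober.sober hZ.1 (isClosed_of_mem_irreducibleComponents Z hZ)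
  have hgen : ∀ w : F, w ⤳ z → w = z := fun w hw => by
    have hsub : Z ⊆ closure {w} := by
      rw [← hz.def]
      exact isClosed_closure.closure_subset_iff.2 (Set.singleton_subset_iff.2 (specializes_iff_mem_closure.1 hw))
    have hwZ : w ∈ Z := hZ.2 isIrreducible_singleton.closure hsub (subset_closure rfl)
    exact (hw.antisymm (hz.specializes hwZ)).eq
  letI : F.Over (Spec (CommRingCat.of L)) := ⟨g⟩
  haveI : LocallyOfFiniteType (F ↘ Spec (CommRingCat.of L)) := ‹LocallyOfFiniteType g›
  obtain ⟨c, hc, hloc⟩ := VarDim.localDim_eq_coheight_add L z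
  have h0 : Order.coheight z = 0 := Order.coheight_eq_zero.mpr fun w hw => (hgen w hw) ▸ le_rfl
  rw [h0] at hc
  obtain rfl : c = 0 := by exact_mod_cast hc.symm
  have h := S2768.result n g z
  rw [fibreDimAt_of_field, hloc, zero_add] at h
  rw [← hz.def, CycLib.topologicalKrullDim_closure, VarDim.height_eq_dimPt L z]
  exact h

end Groth.Agent.TanSmooth
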