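import Groth.Agent.TanSmooth.Scheme
import Groth.Agent.Omega.GenericSmooth
import Groth.Agent.ConsPropLib.Noeth
import Groth.Agent.S4367
import Groth.Agent.CycLib.FibreDim
import Mathlib.RingTheory.KrullDimension.Regular
import Mathlib.FieldTheory.Perfect

/-!
# The image of the locus where the tangent map has rank at most `r`
-/

set_option autoImplicit false
set_option backward.isDefEq.respectTransparency.types false

universe u

open CategoryTheory CategoryTheory.Limits AlgebraicGeometry TopologicalSpace IsLocalRing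

namespace Groth.Agent.TanSmooth

theorem finrank_cotangent_le {k R S : Type u} [Field k] [CommRing R] [CommRing S] [IsLocalRing R] [IsLocalRing S]
    [IsNoetherianRing S] [IsNoetherianRing R] [Algebra k R] [Algebra k S] [Algebra R S] [IsScalarTower k R S]
    [IsLocalHom (algebraMap R S)]
    (hresR : Function.Surjective (algebraMap k (ResidueField R)))
    (hinj : ∀ x ∈ maximalIdeal R, algebraMap R S x ∈ maximalIdeal S ^ 2 → x ∈ maximalIdeal R ^ 2)
    (r : ℕ) (t : Fin r → S)
    (h : ∀ x ∈ maximalIdeal R, ∃ c : Fin r → k,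
      algebraMap R S x - ∑ j, algebraMap k S (c j) * t j ∈ maximalIdeal S ^ 2) :
    Module.finrank (ResidueField R) (CotangentSpace R) ≤ r := by
  let mS2 : Submodule k S := (maximalIdeal S ^ 2).restrictScalars k
  let T : Submodule k (S ⧸ mS2) := Submodule.span k (Set.range fun j => mS2.mkQ (t j))
  let L₀ : (maximalIdeal R).restrictScalars k →ₗ[k] (S ⧸ mS2) :=
    mS2.mkQ ∘ₗ (IsScalarTower.toAlgHom k R S).toLinearMap ∘ₗ Submodule.subtype _
  have hL₀ : ∀ y, L₀ y ∈ T := fun ⟨x, hx⟩ => by
    obtain ⟨c, hc⟩ := h x hx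
    have : mS2.mkQ (algebraMap R S x) = ∑ j, c j • mS2.mkQ (t j) := by
      rw [show ∑ j, c j • mS2.mkQ (t j) = mS2.mkQ (∑ j, algebraMap k S (c j) * t j) by
        simp [map_sum, ← Algebra.smul_def], ← sub_eq_zero, ← map_sub]
      exact (Submodule.Quotient.mk_eq_zero _).2 hc
    show mS2.mkQ (algebraMap R S x) ∈ T
    rw [this]
    exact Submodule.sum_mem _ fun j _ => Submodule.smul_mem _ _ (Submodule.subset_span ⟨j, rfl⟩)
  let π : (maximalIdeal R).restrictScalars k →ₗ[k] CotangentSpace R :=
    ((maximalIdeal R).toCotangent).restrictScalars k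
  have hπ : Function.Surjective π := Ideal.toCotangent_surjective _
  have hker : LinearMap.ker L₀ ≤ LinearMap.ker π := fun y hy => by
    refine (Ideal.toCotangent_eq_zero _ _).2 (hinj y.1 y.2 ?_)
    exact (Submodule.Quotient.mk_eq_zero mS2).1 (LinearMap.mem_ker.1 hy)
  have hfin : Module.Finite k T := Module.Finite.span_of_finite k (Set.finite_range _)
  have hle : LinearMap.range L₀ ≤ T := LinearMap.range_le_iff_comap.2 (Submodule.eq_top_iff'.2 hL₀)
  have : Module.Finite k (LinearMap.range L₀) := Submodule.finiteDimensional_of_le hle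
  let e := L₀.quotKerEquivRange
  have : Module.Finite k (((maximalIdeal R).restrictScalars k) ⧸ LinearMap.ker L₀) := Module.Finite.equiv e.symm
  let π' := (LinearMap.ker L₀).liftQ π hker
  have hπ' : Function.Surjective π' := fun v => by
    obtain ⟨y, rfl⟩ := hπ v
    exact ⟨Submodule.Quotient.mk y, rfl⟩
  have h1 : Module.finrank k (CotangentSpace R) ≤ r :=
    calc Module.finrank k (CotangentSpace R) ≤ Module.finrank k (((maximalIdeal R).restrictScalars k) ⧸ LinearMap.ker L₀) :=
          π'.finrank_le_finrank_of_surjective hπ'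
      _ = Module.finrank k (LinearMap.range L₀) := e.finrank_eq
      _ ≤ Module.finrank k T := Submodule.finrank_mono hle
      _ ≤ Fintype.card (Fin r) := finrank_range_le_card _
      _ = r := Fintype.card_fin r
  have : IsScalarTower k (ResidueField R) (CotangentSpace R) := IsScalarTower.of_algebraMap_smul fun c v => by
    rw [IsScalarTower.algebraMap_apply k R (ResidueField R)]
    exact (algebraMap_smul (ResidueField R) (algebraMap k R c) v).trans (algebraMap_smul R c v)
  have hbij : Function.Bijective (algebraMap k (ResidueField R)) := ⟨(algebraMap k _).injective, hresR⟩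
  have h2 : Module.finrank k (ResidueField R) = 1 := by
    rw [← (AlgEquiv.ofBijective (Algebra.ofId k (ResidueField R)) hbij).toLinearEquiv.finrank_eq, Module.finrank_self]
  rwa [← Module.finrank_mul_finrank k (ResidueField R) (CotangentSpace R), h2, one_mul] at h1

section Scheme

variable {k : Type u} [Field k] {X : Scheme.{u}} (q : X ⟶ Spec (CommRingCat.of k)) (x : X)

theorem algK_formallySmooth_of_mem [LocallyOfFinitePresentation q] (hx : x ∈ q.smoothLocus) :
    (algK q x).FormallySmooth := by
  letI a1 : Algebra k ((Spec (CommRingCat.of k)).presheaf.stalk (q x)) := (constStalk (q x)).toAlgebra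
  letI a2 := (q.stalkMap x).hom.toAlgebra
  letI a3 : Algebra k (X.presheaf.stalk x) := (algK q x).toAlgebra
  haveI : IsScalarTower k ((Spec (CommRingCat.of k)).presheaf.stalk (q x)) (X.presheaf.stalk x) :=
    IsScalarTower.of_algebraMap_eq' rfl
  haveI : Algebra.FormallySmooth k ((Spec (CommRingCat.of k)).presheaf.stalk (q x)) :=
    Algebra.FormallySmooth.of_equiv (AlgEquiv.ofBijective (Algebra.ofId k _) (constStalk_bijective (q x)))
  haveI : Algebra.FormallySmooth ((Spec (CommRingCat.of k)).presheaf.stalk (q x)) (X.presheaf.stalk x) := hx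
  exact Algebra.FormallySmooth.comp k ((Spec (CommRingCat.of k)).presheaf.stalk (q x)) _

theorem algK_comp {A : Scheme.{u}} (g : A ⟶ X) (a : A) (c : k) :
    (g.stalkMap a).hom (algK q (g a) c) = algK (g ≫ q) a c := by
  show (g.stalkMap a).hom ((q.stalkMap (g a)).hom (constStalk (q (g a)) c)) =
    ((g ≫ q).stalkMap a).hom (constStalk ((g ≫ q) a) c)
  rw [Scheme.Hom.stalkMap_comp]
  rfl

theorem mem_smoothLocus_generic [CharZero k] [IsIntegral X] [LocallyOfFiniteType q]
    [LocallyOfFinitePresentation q] : genericPoint X ∈ q.smoothLocus := by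
  let K : Scheme.{u} := Spec (CommRingCat.of k)
  haveI : CharZero K.functionField :=
    charZero_of_injective_ringHom (RingHom.injective (constStalk (k := k) (genericPoint K)))
  haveI : PerfectField K.functionField := PerfectField.ofCharZero
  refine Omega.GenericSmooth.mem_smoothLocus q _ (Subsingleton.elim (α := PrimeSpectrum k) _ _) ?_
  exact inferInstanceAs (IsRegularLocalRing X.functionField)

end Scheme

section Main

variable {k : Type u} [Field k] [IsAlgClosed k] [CharZero k] {X Y W Z : Scheme.{u}} (f : X ⟶ Y)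
  (qY : Y ⟶ Spec (CommRingCat.of k)) [LocallyOfFiniteType qY] [LocallyOfFiniteType (f ≫ qY)]
  [IsIntegral W] [IsIntegral Z] (i : W ⟶ X) [IsClosedImmersion i] (j : Z ⟶ Y) [IsClosedImmersion j]
  (g : W ⟶ Z) (hg : g ≫ j = i ≫ f)

include qY hg in
theorem dim_le (r : ℕ) (hdom : g (genericPoint W) = genericPoint Z)
    (hA : ∀ V : W.Opens, genericPoint W ∈ V → ∃ a ∈ V, IsClosed ({i a} : Set X) ∧
      ∃ S : Finset (CotangentSpace (X.presheaf.stalk (i a))), S.card ≤ r ∧
        (LinearMap.range (FixPt.cotangentMapAt f (i a) (f.base (i a)) rfl) : Set (CotangentSpace (X.presheaf.stalk (i a)))) ⊆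
          (Submodule.span (ResidueField (X.presheaf.stalk (i a)))
            (S : Set (CotangentSpace (X.presheaf.stalk (i a)))) : Set (CotangentSpace (X.presheaf.stalk (i a))))) :
    topologicalKrullDim Z ≤ r := by
  classical
  let qZ := j ≫ qY
  have hq : g ≫ qZ = i ≫ f ≫ qY := by rw [← Category.assoc, hg, Category.assoc]
  have : IsLocallyNoetherian Z := LocallyOfFiniteType.isLocallyNoetherian qZ
  have : LocallyOfFiniteType (g ≫ qZ) := by rw [hq]; infer_instance
  have : IsLocallyNoetherian W := LocallyOfFiniteType.isLocallyNoetherian (g ≫ qZ)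
  have : LocallyOfFiniteType g := locallyOfFiniteType_of_comp g qZ
  have hfp : ∀ {A B : Scheme.{u}} [IsLocallyNoetherian B] (h : A ⟶ B) [LocallyOfFiniteType h],
      LocallyOfFinitePresentation h := fun h _ => LocallyOfFinitePresentation.iff_locallyOfFiniteType.mpr ‹_›
  have := hfp g
  have := hfp qZ
  have := hfp (g ≫ qZ)
  haveI : CharZero Z.functionField := charZero_of_injective_ringHom (RingHom.injective (algK qZ (genericPoint Z)))
  haveI : PerfectField Z.functionField := PerfectField.ofCharZero
  let V : W.Opens := g.smoothLocus ⊓ (g ≫ qZ).smoothLocus ⊓ g ⁻¹ᵁ qZ.smoothLocus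
  have hV : genericPoint W ∈ V := by
    refine ⟨⟨Omega.GenericSmooth.mem_smoothLocus g _ hdom (inferInstanceAs (IsRegularLocalRing W.functionField)),
      mem_smoothLocus_generic _⟩, ?_⟩
    show g (genericPoint W) ∈ qZ.smoothLocus
    rw [hdom]
    exact mem_smoothLocus_generic qZ
  obtain ⟨a, ⟨⟨hga, hWa⟩, hZa⟩, haX, S₀, hS₀, hspan⟩ := hA V hV
  have haW : IsClosed ({a} : Set W) := by
    have : ({a} : Set W) = i ⁻¹' {i a} := by
      ext b
      exact ⟨fun h => congrArg i h, fun h => i.isEmbedding.injective h⟩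
    rw [this]
    exact haX.preimage i.continuous
  have := LocallyOfFiniteType.jacobsonSpace qZ
  have hzZ : IsClosed ({g a} : Set Z) := g.closePoints_subset_preimage_closedPoints haW
  letI a1 : Algebra k (Z.presheaf.stalk (g a)) := (algK qZ (g a)).toAlgebra
  letI a2 := (g.stalkMap a).hom.toAlgebra
  letI a3 : Algebra k (W.presheaf.stalk a) := (algK (g ≫ qZ) a).toAlgebra
  haveI : IsScalarTower k (Z.presheaf.stalk (g a)) (W.presheaf.stalk a) :=
    IsScalarTower.of_algebraMap_eq fun c => (algK_comp qZ g a c).symm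
  haveI : IsLocalHom (algebraMap (Z.presheaf.stalk (g a)) (W.presheaf.stalk a)) :=
    inferInstanceAs (IsLocalHom (g.stalkMap a).hom)
  haveI : Algebra.FormallySmooth k (Z.presheaf.stalk (g a)) := algK_formallySmooth_of_mem qZ (g a) hZa
  haveI : Algebra.FormallySmooth k (W.presheaf.stalk a) := algK_formallySmooth_of_mem (g ≫ qZ) a hWa
  haveI : Algebra.FormallySmooth (Z.presheaf.stalk (g a)) (W.presheaf.stalk a) := hga
  haveI : Algebra.EssFiniteType k (Z.presheaf.stalk (g a)) := algK_essFiniteType qZ (g a)
  haveI : Algebra.EssFiniteType k (W.presheaf.stalk a) := algK_essFiniteType (g ≫ qZ) a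
  have hR : Function.Surjective (algebraMap k (ResidueField (Z.presheaf.stalk (g a)))) :=
    algK_residue_surjective qZ (g a) hzZ
  have hS : Function.Surjective (algebraMap k (ResidueField (W.presheaf.stalk a))) :=
    algK_residue_surjective (g ≫ qZ) a haW
  have hX : Function.Surjective ((residue (X.presheaf.stalk (i a))).comp (algK (f ≫ qY) (i a))) :=
    algK_residue_surjective (f ≫ qY) (i a) haX
  choose tS htS using fun v : CotangentSpace (X.presheaf.stalk (i a)) => Ideal.toCotangent_surjective _ v
  obtain ⟨e, he⟩ : ∃ e : Fin r → CotangentSpace (X.presheaf.stalk (i a)), (S₀ : Set _) ⊆ Set.range e := by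
    refine ⟨fun l => if h : l.1 < S₀.card then (S₀.equivFin.symm ⟨l.1, h⟩).1 else 0, fun v hv => ?_⟩
    refine ⟨⟨(S₀.equivFin ⟨v, hv⟩).1, (S₀.equivFin ⟨v, hv⟩).2.trans_le hS₀⟩, ?_⟩
    simp
  have hfin : Module.finrank (ResidueField (Z.presheaf.stalk (g a))) (CotangentSpace (Z.presheaf.stalk (g a))) ≤ r := by
    refine finrank_cotangent_le hR
      (fun x hx hx2 => injective_of_formallySmooth k _ _ hR hS x hx hx2) r
      (fun l => (i.stalkMap a).hom (tS (e l)).1) fun x hx => ?_
    obtain ⟨y, rfl⟩ := j.stalkMap_surjective (g a) x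
    have key : ∀ (p : Y) (hp : f (i a) = p) (y : Y.presheaf.stalk p), y ∈ maximalIdeal _ →
        ∃ c : Fin r → k, (i.stalkMap a).hom (FixPt.stalkMapAt f (i a) p hp y) -
          ∑ l, algK (i ≫ f ≫ qY) a (c l) * (i.stalkMap a).hom (tS (e l)).1 ∈ maximalIdeal (W.presheaf.stalk a) ^ 2 := by
      rintro _ rfl y hy
      have hm : FixPt.cotangentMapAt f (i a) (f.base (i a)) rfl (Ideal.toCotangent _ ⟨y, hy⟩) ∈
          Submodule.span (ResidueField (X.presheaf.stalk (i a))) (Set.range e) :=
        Submodule.span_mono he (hspan ⟨_, rfl⟩)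
      obtain ⟨c, hc⟩ := Submodule.mem_span_range_iff_exists_fun _ |>.1 hm
      choose c' hc' using fun l => hX (c l)
      refine ⟨c', ?_⟩
      have hy' : FixPt.stalkMapAt f (i a) (f (i a)) rfl y ∈ maximalIdeal _ := by
        rw [stalkMapAt_rfl]
        exact map_nonunit (f.stalkMap (i a)).hom y hy
      have h2 : FixPt.stalkMapAt f (i a) (f (i a)) rfl y - ∑ l, algK (f ≫ qY) (i a) (c' l) * (tS (e l)).1 ∈
          maximalIdeal (X.presheaf.stalk (i a)) ^ 2 := by
        have hsum : ∑ l, algK (f ≫ qY) (i a) (c' l) * (tS (e l)).1 ∈ maximalIdeal (X.presheaf.stalk (i a)) :=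
          Ideal.sum_mem _ fun l _ => Ideal.mul_mem_left _ _ (tS (e l)).2
        have : Ideal.toCotangent _ (⟨_, hy'⟩ : maximalIdeal (X.presheaf.stalk (i a))) =
            Ideal.toCotangent _ (∑ l, algK (f ≫ qY) (i a) (c' l) • tS (e l)) := by
          refine Eq.trans (b := FixPt.cotangentMapAt f (i a) (f (i a)) rfl (Ideal.toCotangent _ ⟨y, hy⟩)) rfl
            (Eq.trans hc.symm ?_)
          rw [map_sum]
          refine Finset.sum_congr rfl fun l _ => ?_
          rw [map_smul, htS, ← hc' l]
          rfl
        rw [Ideal.toCotangent_eq] at this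
        simpa [Submodule.coe_sum] using this
      have h3 := Ideal.mem_map_of_mem (i.stalkMap a).hom h2
      rw [map_sub, map_sum] at h3
      simp only [map_mul, algK_comp] at h3
      have hle : (maximalIdeal (X.presheaf.stalk (i a))).map (i.stalkMap a).hom ≤ maximalIdeal (W.presheaf.stalk a) :=
        Ideal.map_le_iff_le_comap.2 fun z hz => Ideal.mem_comap.2 (map_nonunit (i.stalkMap a).hom z hz)
      rw [Ideal.map_pow] at h3
      exact Ideal.pow_right_mono hle 2 h3
    have hp : f (i a) = j (g a) := congrArg (fun h : W ⟶ Y => h a) hg.symm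
    have hy : y ∈ maximalIdeal _ := by
      by_contra h
      exact hx ((notMem_maximalIdeal.1 h).map (j.stalkMap (g a)).hom)
    obtain ⟨c, hc⟩ := key _ hp y hy
    refine ⟨c, ?_⟩
    have e1 : (g.stalkMap a).hom ((j.stalkMap (g a)).hom y) = (i.stalkMap a).hom (FixPt.stalkMapAt f (i a) _ hp y) := by
      have h := congr($(Scheme.Hom.stalkMap_congr_hom (g ≫ j) (i ≫ f) hg a).hom y)
      simp [FixPt.stalkMapAt, Scheme.Hom.stalkMap_comp] at h ⊢
      exact h
    show (g.stalkMap a).hom ((j.stalkMap (g a)).hom y) - _ ∈ _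
    rw [e1]
    have hk : ∀ c, algebraMap k (W.presheaf.stalk a) c = algK (i ≫ f ≫ qY) a c := fun c => by
      show algK (g ≫ qZ) a c = _
      rw [hq]
    simpa only [hk] using hc
  letI : Z.Over (Spec (CommRingCat.of k)) := ⟨qZ⟩
  haveI : LocallyOfFiniteType (Z ↘ Spec (CommRingCat.of k)) := inferInstanceAs (LocallyOfFiniteType qZ)
  have hd := localDim_of_irreducible qZ (g a)
  obtain ⟨c, hc, hloc⟩ := VarDim.localDim_eq_coheight_add k (g a)
  have h0 : VarDim.dimPt k Z (g a) = 0 := by
    have h : Order.height (g a) = 0 := Order.height_eq_zero.mpr fun b hb =>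
      le_of_eq ((show b ∈ ({g a} : Set Z) from hzZ.closure_eq ▸ (specializes_iff_mem_closure.1 hb)) : b = g a).symm
    rw [VarDim.height_eq_dimPt k] at h
    exact_mod_cast h
  have hst : (c : WithBot ℕ∞) ≤ r := by
    have h1 : ringKrullDim (Z.presheaf.stalk (g a)) = c := by rw [ringKrullDim_stalk_eq_coheight, hc]; rfl
    rw [← h1]
    refine (ringKrullDim_le_spanFinrank_maximalIdeal _).trans ?_
    rw [IsLocalRing.spanFinrank_maximalIdeal_eq_finrank_cotangentSpace]
    exact_mod_cast hfin
  rw [← hd, hloc, h0, add_zero]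
  exact hst

end Main

end Groth.Agent.TanSmooth

namespace Groth.Agent.TanSmooth

theorem topologicalKrullDim_closed_le {X : Scheme.{u}} {k : Type u} [Field k] [X.Over (Spec (CommRingCat.of k))]
    [LocallyOfFiniteType (X ↘ Spec (CommRingCat.of k))] {T : Set X} (hT : IsClosed T) {m : ℕ}
    (h : ∀ z ∈ T, VarDim.dimPt k X z ≤ m) : topologicalKrullDim T ≤ (m : WithBot ℕ∞) := by
  haveI : QuasiSober T := hT.isClosedEmbedding_subtypeVal.quasiSober
  refine iSup_le fun l => ?_
  have hmono : StrictMono fun C : IrreducibleCloseds T =>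
      VarDim.dimPt k X (C.isIrreducible.genericPoint : X) := fun C D hCD => by
    refine VarDim.dimPt_lt_of_lt k (lt_iff_le_not_ge.mpr ⟨?_, fun hle => hCD.not_ge ?_⟩)
    · refine (Topology.IsInducing.subtypeVal.specializes_iff).mpr (specializes_iff_mem_closure.mpr ?_)
      rw [D.isIrreducible.closure_genericPoint D.isClosed]
      exact hCD.le (by
        simpa [C.isIrreducible.closure_genericPoint C.isClosed] using
          subset_closure (Set.mem_singleton C.isIrreducible.genericPoint))
    · intro z hz
      have hs : C.isIrreducible.genericPoint ⤳ D.isIrreducible.genericPoint :=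
        (Topology.IsInducing.subtypeVal.specializes_iff).mp hle
      have hz' : D.isIrreducible.genericPoint ⤳ z := specializes_iff_mem_closure.mpr
        (by rw [D.isIrreducible.closure_genericPoint D.isClosed]; exact hz)
      have := specializes_iff_mem_closure.mp (hs.trans hz')
      rwa [C.isIrreducible.closure_genericPoint C.isClosed] at this
  have h1 := LTSeries.head_add_length_le_nat (l.map _ hmono)
  have h2 : l.length ≤ m := by
    have := h _ (l.last.isIrreducible.genericPoint).2
    simp only [LTSeries.last_map, LTSeries.head_map, LTSeries.map_length] at h1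
    omega
  exact_mod_cast h2

theorem dimPt_le_of_mem_closure_image {k : Type u} [Field k] [IsAlgClosed k] [CharZero k] {X Y : Scheme.{u}}
    [IsNoetherian X] [IsNoetherian Y]
    [Y.Over (Spec (CommRingCat.of k))] [LocallyOfFiniteType (Y ↘ Spec (CommRingCat.of k))]
    (f : X ⟶ Y) [LocallyOfFiniteType (f ≫ Y ↘ Spec (CommRingCat.of k))] (r : ℕ) (A : Set X)
    (hA : ∀ x ∈ A, IsClosed ({x} : Set X) ∧
      ∃ S : Finset (CotangentSpace (X.presheaf.stalk x)), S.card ≤ r ∧
        (LinearMap.range (FixPt.cotangentMapAt f x (f.base x) rfl) : Set (CotangentSpace (X.presheaf.stalk x))) ⊆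
          (Submodule.span (ResidueField (X.presheaf.stalk x))
            (S : Set (CotangentSpace (X.presheaf.stalk x))) : Set (CotangentSpace (X.presheaf.stalk x))))
    (C : Closeds X) : ∀ z ∈ closure (f.base '' (A ∩ C)), VarDim.dimPt k Y z ≤ r := by
  revert C
  refine fun C => WellFoundedLT.induction
    (motive := fun C : Closeds X => ∀ z ∈ closure (f.base '' (A ∩ C)), VarDim.dimPt k Y z ≤ r) C ?_
  intro C IH
  by_cases h : closure (A ∩ C) = (C : Set X)
  · by_cases hp : IsPreirreducible (C : Set X)
    · by_cases hne : (C : Set X).Nonempty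
      · obtain ⟨W, i, _, _, _, hW⟩ := ConsPropLib.exists_integral_closed C.isClosed ⟨hne, hp⟩
        have hCw : (C : Set X) = closure {i (genericPoint W)} := by
          rw [← Set.image_singleton, i.isClosedEmbedding.closure_image_eq, genericPoint_closure, Set.image_univ]
          exact hW.symm
        obtain ⟨Z, j, _, _, _, hZ⟩ := ConsPropLib.exists_integral_closed (Z := closure {f (i (genericPoint W))})
          isClosed_closure isIrreducible_singleton.closure
        have hsub : Set.range (i ≫ f) ⊆ Set.range j := by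
          rw [hZ]
          rintro _ ⟨c, rfl⟩
          exact specializes_iff_mem_closure.1 ((genericPoint_specializes c).map (i ≫ f).continuous)
        obtain ⟨g, hg⟩ := S4367.result (i ≫ f) j hsub
        have hgz : j (genericPoint Z) = f (i (genericPoint W)) := by
          refine ((genericPoint_spec Z).image j.continuous).eq ?_
          rw [Set.image_univ, hZ, closure_closure]
          exact (rfl : IsGenericPoint _ (closure {f (i (genericPoint W))}))
        have hdom : g (genericPoint W) = genericPoint Z := j.isEmbedding.injective (by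
          rw [hgz]
          exact congrArg (fun h : W ⟶ Y => h (genericPoint W)) hg)
        have hd := dim_le f (Y ↘ Spec (CommRingCat.of k)) i j g hg r hdom fun V hV => by
          obtain ⟨O, hO, hOV⟩ := i.isEmbedding.isInducing.isOpen_iff.1 V.2
          obtain ⟨x, hxO, hxA, hxC⟩ := mem_closure_iff.1
            (show i (genericPoint W) ∈ closure (A ∩ C) by rw [h, hCw]; exact subset_closure rfl) O hO
            (by have : genericPoint W ∈ i ⁻¹' O := hOV ▸ hV; exact this)
          obtain ⟨a, rfl⟩ := hW.ge hxC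
          exact ⟨a, hOV.le hxO, hA _ hxA⟩
        intro z hz
        have hz' : z ≤ f (i (genericPoint W)) := by
          refine specializes_iff_mem_closure.2 (closure_minimal ?_ isClosed_closure hz)
          rintro _ ⟨x, ⟨-, hx⟩, rfl⟩
          rw [hCw] at hx
          exact specializes_iff_mem_closure.1 ((specializes_iff_mem_closure.2 hx).map f.continuous)
        refine (VarDim.exists_ltSeries_of_le k hz').1.trans ?_
        have he := (j.isEmbedding.toHomeomorph.trans (Homeomorph.setCongr hZ)).isHomeomorph.topologicalKrullDim_eq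
        rw [he, CycLib.topologicalKrullDim_closure, VarDim.height_eq_dimPt k] at hd
        exact_mod_cast hd
      · rw [Set.not_nonempty_iff_eq_empty] at hne
        intro z hz
        rw [hne, Set.inter_empty, Set.image_empty, closure_empty] at hz
        exact hz.elim
    · rw [isPreirreducible_iff_isClosed_union_isClosed] at hp
      push Not at hp
      obtain ⟨z₁, z₂, h1, h2, h12, hn1, hn2⟩ := hp
      have hlt : ∀ t : Set X, ∀ ht : IsClosed t, ¬ (C : Set X) ⊆ t →
          (⟨C ∩ t, C.isClosed.inter ht⟩ : Closeds X) < C := fun t ht hnt =>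
        SetLike.coe_ssubset_coe.1 ⟨Set.inter_subset_left, fun hsub => hnt (hsub.trans Set.inter_subset_right)⟩
      intro z hz
      have hsub : f.base '' (A ∩ C) ⊆ f.base '' (A ∩ (C ∩ z₁)) ∪ f.base '' (A ∩ (C ∩ z₂)) := by
        rintro _ ⟨x, ⟨hxA, hxC⟩, rfl⟩
        exact (h12 hxC).imp (fun h => ⟨x, ⟨hxA, hxC, h⟩, rfl⟩) (fun h => ⟨x, ⟨hxA, hxC, h⟩, rfl⟩)
      have := closure_mono hsub hz
      rw [closure_union] at this
      exact this.elim (IH ⟨C ∩ z₁, C.isClosed.inter h1⟩ (hlt z₁ h1 hn1) z) (IH ⟨C ∩ z₂, C.isClosed.inter h2⟩ (hlt z₂ h2 hn2) z)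
  · have hsub : closure (A ∩ C) ⊆ C := closure_minimal Set.inter_subset_right C.isClosed
    have e : A ∩ closure (A ∩ C) = A ∩ C :=
      (Set.inter_subset_inter_right A hsub).antisymm fun x hx => ⟨hx.1, subset_closure hx⟩
    have := IH ⟨closure (A ∩ C), isClosed_closure⟩ (SetLike.coe_ssubset_coe.1 (hsub.ssubset_of_ne h))
    intro z hz
    exact this z (by rw [show A ∩ ((⟨closure (A ∩ C), isClosed_closure⟩ : Closeds X) : Set X) = A ∩ C from e]; exact hz)

end Groth.Agent.TanSmooth
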