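import Groth.Agent.TanSmooth.RankLe
import Groth.Agent.GrpSGA.Translate
import Groth.Agent.GrpScheme.Basic
import Groth.Agent.AlgSpCov.Instances
import Groth.Agent.AlgSpD.FibreDimBC
import Groth.Agent.AlgSpD.RelDim
import Groth.Agent.DimOpen.GenericFibre
import Groth.Agent.CVar22.GenSmooth
import Groth.Agent.CVar22.RegSmooth

/-!
# Kleiman transversality: the pieces
-/

set_option autoImplicit false
set_option backward.isDefEq.respectTransparency.types false

universe u

open CategoryTheory MonoidalCategory CartesianMonoidalCategory MonObj GrpObj AlgebraicGeometry Limits TopologicalSpace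

namespace Groth.Agent.TanSmooth

open Groth.Agent.GrpScheme

/-- Generic smoothness for a smooth, possibly reducible source. -/
theorem exists_open_preimage_le_smoothLocus {k : Type u} [Field k] [CharZero k]
    {X Y : Scheme.{u}} (qX : X ⟶ Spec (CommRingCat.of k)) (qY : Y ⟶ Spec (CommRingCat.of k))
    [LocallyOfFiniteType qX] [QuasiCompact qX] [Smooth qX]
    [LocallyOfFiniteType qY] [QuasiCompact qY] [IsSeparated qY]
    [IsIntegral Y] (f : X ⟶ Y) (hf : f ≫ qY = qX) [LocallyOfFinitePresentation f] :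
    ∃ V : Y.Opens, (V : Set ↥Y).Nonempty ∧ f ⁻¹ᵁ V ≤ f.smoothLocus := by
  haveI : QuasiCompact f := by
    have : QuasiCompact (f ≫ qY) := by rw [hf]; infer_instance
    exact QuasiCompact.of_comp f qY
  haveI : IsLocallyNoetherian Y := LocallyOfFiniteType.isLocallyNoetherian qY
  haveI : IsLocallyNoetherian X := LocallyOfFiniteType.isLocallyNoetherian qX
  haveI : CompactSpace Y := QuasiCompact.compactSpace_of_compactSpace qY
  haveI : CompactSpace X := QuasiCompact.compactSpace_of_compactSpace qX
  haveI : IsNoetherian X := {}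
  haveI : IsNoetherian Y := {}
  haveI : CharZero Y.functionField := charZero_of_injective_ringHom (RingHom.injective (algK qY (genericPoint Y)))
  haveI : PerfectField Y.functionField := PerfectField.ofCharZero
  have key : ∀ x : X, f.base x = genericPoint Y → x ∈ f.smoothLocus := by
    intro x hx
    refine Omega.GenericSmooth.mem_smoothLocus f x hx ?_
    have hs : (qX.stalkMap x).hom.FormallySmooth :=
      (qX.smoothLocus_eq_top.ge (Set.mem_univ x) : x ∈ qX.smoothLocus)
    have hF : IsField ((Spec (CommRingCat.of k)).presheaf.stalk (qX x)) :=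
      CVar22.isField_stalk_of_eq_genericPoint (Subsingleton.elim _ _)
    let := hF.toField
    let := (qX.stalkMap x).hom.toAlgebra
    haveI : Algebra.EssFiniteType ((Spec (CommRingCat.of k)).presheaf.stalk (qX x)) (X.presheaf.stalk x) :=
      RingHom.essFiniteType_algebraMap.mp (LocallyOfFiniteType.stalkMap qX x)
    haveI : Algebra.FormallySmooth ((Spec (CommRingCat.of k)).presheaf.stalk (qX x)) (X.presheaf.stalk x) :=
      RingHom.formallySmooth_algebraMap.mp hs
    exact CVar22.isRegularLocalRing_of_formallySmooth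
      ((Spec (CommRingCat.of k)).presheaf.stalk (qX x)) (X.presheaf.stalk x)
  have hS : Topology.IsConstructible (f.base '' (f.smoothLocus : Set X)ᶜ) :=
    f.isConstructible_image
      ((IsCompact.isConstructible (TopologicalSpace.NoetherianSpace.isCompact _) f.smoothLocus.isOpen).compl)
  obtain ⟨U, hU, hgU, hsub⟩ := ConsPropLib.exists_open_subset_of_generic hS.compl
    (fun ⟨x, hxn, hx⟩ => hxn (key x hx))
  refine ⟨⟨U, hU⟩, ⟨_, hgU⟩, fun x hx => ?_⟩
  by_contra h
  exact hsub hx ⟨x, h, rfl⟩

section Act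

variable {S : Scheme.{u}} {G X Y : Over S} [GrpObj G] (a : AlgGrp.Action G X)

lemma smul_orbitMap (x : 𝟙_ (Over S) ⟶ X) {T : Over S} (b h : T ⟶ G) :
    lift b (h ≫ a.orbitMap x) ≫ a.act = (b * h) ≫ a.orbitMap x := by
  have hh : ∀ c : T ⟶ G, c ≫ a.orbitMap x = lift c (toUnit T ≫ x) ≫ a.act := fun c => by
    rw [AlgGrp.Action.orbitMap, comp_lift_assoc, Category.comp_id, ← Category.assoc c,
      toUnit_unique (c ≫ toUnit G) (toUnit T)]
  rw [hh, hh]
  have := congr(lift (lift b h) (toUnit T ≫ x) ≫ $(a.mul_act))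
  rw [← Category.assoc, lift_whiskerRight, ← Hom.mul_def, lift_lift_associator_hom_assoc,
    lift_whiskerLeft_assoc] at this
  exact this.symm

/-- `(g, y) ↦ g · f y` is smooth when the orbit map is smooth and surjective. -/
theorem smooth_act_comp [Smooth G.hom] [Smooth Y.hom] (x : 𝟙_ (Over S) ⟶ X) [Smooth (a.orbitMap x).left]
    [Surjective (a.orbitMap x).left] (f : Y ⟶ X) : Smooth ((G ◁ f) ≫ a.act).left := by
  let φ := a.orbitMap x
  let P : Over S := Over.mk (pullback.fst f.left φ.left ≫ Y.hom)
  let e₁ : P ⟶ Y := Over.homMk (pullback.fst f.left φ.left) rfl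
  let e₂ : P ⟶ G := Over.homMk (pullback.snd f.left φ.left) (by
    show pullback.snd f.left φ.left ≫ G.hom = pullback.fst f.left φ.left ≫ Y.hom
    rw [← Over.w φ, ← Category.assoc, ← pullback.condition, Category.assoc, Over.w f])
  have he : e₁ ≫ f = e₂ ≫ φ := Over.OverMorphism.ext pullback.condition
  let sh : G ⊗ P ≅ G ⊗ P :=
    { hom := lift (fst G P * (snd G P ≫ e₂)) (snd G P)
      inv := lift (fst G P * (snd G P ≫ e₂)⁻¹) (snd G P)
      hom_inv_id := by
        ext <;> simp [MonObj.comp_mul, GrpObj.comp_inv, mul_assoc]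
      inv_hom_id := by
        ext <;> simp [MonObj.comp_mul, GrpObj.comp_inv, mul_assoc] }
  have key : (G ◁ e₁) ≫ (G ◁ f) ≫ a.act = sh.hom ≫ fst G P ≫ φ := by
    have h1 : sh.hom ≫ fst G P = fst G P * (snd G P ≫ e₂) := lift_fst _ _
    rw [← Category.assoc sh.hom, h1, ← smul_orbitMap a x (fst G P) (snd G P ≫ e₂), ← Category.assoc (G ◁ e₁)]
    congr 1
    ext <;> simp [he, φ]
  have : Smooth e₁.left := MorphismProperty.pullback_fst (P := @Smooth) f.left φ.left ‹_›
  have : Surjective e₁.left := MorphismProperty.pullback_fst (P := @Surjective) f.left φ.left ‹_›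
  have : Smooth (G ◁ e₁).left := Basic.whiskerLeft_mem @Smooth e₁ G ‹_›
  have : Surjective (G ◁ e₁).left := Basic.whiskerLeft_mem @Surjective e₁ G ‹_›
  have : Smooth P.hom := inferInstanceAs (Smooth (pullback.fst f.left φ.left ≫ Y.hom))
  have : Smooth (fst G P).left := MorphismProperty.pullback_fst (P := @Smooth) G.hom P.hom ‹_›
  have : IsIso sh.hom := sh.isIso_hom
  have : IsIso sh.hom.left := Basic.isIso_left _
  refine AlgSpCov.smooth_of_comp_smooth (G ◁ e₁).left _ ?_
  rw [← Over.comp_left, key, Over.comp_left, Over.comp_left]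
  infer_instance

theorem isPullback_section (σ : 𝟙_ (Over S) ⟶ G) :
    IsPullback (lift (toUnit Y ≫ σ) (𝟙 Y)).left Y.hom (fst G Y).left σ.left := by
  have R : IsPullback (snd G Y).left (fst G Y).left Y.hom G.hom := (IsPullback.of_hasPullback G.hom Y.hom).flip
  have h1 : (lift (toUnit Y ≫ σ) (𝟙 Y)).left ≫ (snd G Y).left = 𝟙 Y.left := by
    rw [← Over.comp_left, lift_snd]; rfl
  refine IsPullback.of_right (h₁₂ := (snd G Y).left) (v₁₃ := Y.hom) (h₂₂ := G.hom) ?_ ?_ R
  · rw [h1, Over.w σ]
    have : IsIso (𝟙_ (Over S)).hom := inferInstanceAs (IsIso (𝟙 S))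
    exact IsPullback.of_horiz_isIso ⟨by simp⟩
  · rw [← Over.comp_left, lift_fst]
    rfl

end Act

theorem exists_nat_fibreDimAt {X Y : Scheme.{u}} (f : X ⟶ Y) [LocallyOfFiniteType f] (x : X) :
    ∃ m : ℕ, FlatMor.fibreDimAt f x = (m : WithBot ℕ∞) := by
  obtain ⟨c, n, -, -, h⟩ := DimOpen.exists_fibreDimAt f x
  exact ⟨c + n, h⟩

theorem topologicalKrullDim_of_fibreDim {L : Type u} [Field L] {F : Scheme.{u}} (g : F ⟶ Spec (CommRingCat.of L))
    [Smooth g] [Nonempty F] (d : ℕ) (h : ∀ z, FlatMor.fibreDimAt g z = (d : WithBot ℕ∞)) :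
    topologicalKrullDim F = (d : WithBot ℕ∞) := by
  have := smoothOfRelativeDimension_of_fibreDim g d h
  refine le_antisymm ?_ ?_
  · letI : F.Over (Spec (CommRingCat.of L)) := ⟨g⟩
    haveI : LocallyOfFiniteType (F ↘ Spec (CommRingCat.of L)) := inferInstanceAs (LocallyOfFiniteType g)
    rw [VarDim.topologicalKrullDim_eq_iSup L]
    refine iSup_le fun z => ?_
    obtain ⟨c, -, hloc⟩ := VarDim.localDim_eq_coheight_add L z
    rw [← fibreDimAt_of_field g, h z] at hloc
    have : d = c + VarDim.dimPt L F z := by exact_mod_cast hloc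
    exact_mod_cast (show VarDim.dimPt L F z ≤ d by omega)
  · let z : F := Classical.arbitrary F
    rw [← topologicalKrullDim_component g d (irreducibleComponent z)
      (irreducibleComponent_mem_irreducibleComponents z)]
    exact Topology.IsInducing.subtypeVal.topologicalKrullDim_le

end Groth.Agent.TanSmooth
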