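import Groth.Agent.TanSmooth.Scheme
import Groth.Agent.S5019
import Groth.Agent.Omega.DiagUniv
import Groth.Agent.Omega.LocalStructure
import Groth.Agent.Props.QProj

/-!
# Smoothness of morphisms between smooth varieties from the rank of the differentials
-/

set_option autoImplicit false
set_option backward.isDefEq.respectTransparency.types false

universe u

open CategoryTheory CategoryTheory.Limits AlgebraicGeometry TopologicalSpace TensorProduct

namespace Groth.Agent.TanSmooth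

theorem smooth_of_rank (A B C : Type u) [CommRing A] [CommRing B] [CommRing C]
    [Algebra A B] [Algebra A C] [Algebra B C] [IsScalarTower A B C]
    [Algebra.Smooth A B] [Algebra.Smooth A C] [Module.Free C Ω[C⁄B]] [Module.Finite C Ω[C⁄B]] (n d : ℕ)
    (hn : Module.finrank C Ω[C⁄B] = n) (hB : ∀ P, Module.rankAtStalk (R := B) Ω[B⁄A] P = d)
    (hC : ∀ P, Module.rankAtStalk (R := C) Ω[C⁄A] P = d + n) :
    Algebra.Smooth B C := by
  cases subsingleton_or_nontrivial C with
  | inl h =>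
    have : Algebra.FinitePresentation B C := Algebra.FinitePresentation.of_restrict_scalars_finitePresentation A B C
    have : Subsingleton Ω[C⁄B] := Module.subsingleton C _
    have : Subsingleton (Algebra.H1Cotangent B C) := Module.subsingleton C _
    exact ⟨(Algebra.formallySmooth_iff B C).mpr ⟨inferInstance, inferInstance⟩, inferInstance⟩
  | inr h =>
    set π := KaehlerDifferential.mapBaseChange A B C
    set g := KaehlerDifferential.map A B C C
    have hex : Function.Exact π g := KaehlerDifferential.exact_mapBaseChange_map A B C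
    have hsurj : Function.Surjective g := KaehlerDifferential.map_surjective A B C
    obtain ⟨s, hs⟩ := Module.projective_lifting_property g LinearMap.id hsurj
    obtain ⟨e, -⟩ := (LinearMap.exact_subtype_ker_map g).splitSurjectiveEquiv Subtype.val_injective ⟨s, hs⟩
    have : Module.Projective C (Ω[C⁄A]) := inferInstance
    have : Module.Projective C (LinearMap.ker g × Ω[C⁄B]) := Module.Projective.of_equiv e
    have : Module.Finite C (LinearMap.ker g × Ω[C⁄B]) := Module.Finite.equiv e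
    have : Module.Projective C (LinearMap.ker g) :=
      Module.Projective.of_split (LinearMap.inl C _ Ω[C⁄B]) (LinearMap.fst C _ _) (LinearMap.fst_comp_inl ..)
    have : Module.Finite C (LinearMap.ker g) :=
      Module.Finite.of_surjective (LinearMap.fst C _ Ω[C⁄B]) LinearMap.fst_surjective
    let π' := π.codRestrict (LinearMap.ker g) fun z => hex.apply_apply_eq_zero z
    have hπ' : Function.Surjective π' := fun ⟨y, hy⟩ => by
      obtain ⟨z, rfl⟩ := (hex y).mp hy
      exact ⟨z, rfl⟩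
    have hbij := Module.bijective_of_surjective_of_rankAtStalk_eq hπ' fun m _ => by
      have h1 := hC ⟨m, inferInstance⟩
      rw [congrFun (Module.rankAtStalk_eq_of_equiv e) _, Module.rankAtStalk_prod, Pi.add_apply,
        Module.rankAtStalk_eq_finrank_of_free (M := Ω[C⁄B])] at h1
      simp only [hn, Pi.natCast_apply, Nat.cast_id] at h1
      rw [Module.rankAtStalk_baseChange, hB]
      omega
    haveI : Subsingleton (Algebra.H1Cotangent B C) := by
      refine subsingleton_of_forall_eq 0 (fun x => ?_)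
      have h1 : Algebra.H1Cotangent.δ A B C x = 0 := hbij.1 <| Subtype.ext <|
        ((Algebra.H1Cotangent.exact_δ_mapBaseChange A B C).apply_apply_eq_zero x).trans (map_zero π).symm
      obtain ⟨y, rfl⟩ := ((Algebra.H1Cotangent.exact_map_δ A B C) x).mp h1
      rw [Subsingleton.elim y 0, map_zero]
    exact ⟨(Algebra.formallySmooth_iff B C).mpr ⟨inferInstance, inferInstance⟩,
      Algebra.FinitePresentation.of_restrict_scalars_finitePresentation A B C⟩

theorem rankAtStalk_chart {X S : Scheme.{u}} (f : X ⟶ S) [Smooth f] {U : S.Opens} (hU : IsAffineOpen U)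
    {V : X.Opens} (hV : IsAffineOpen V) (e : V ≤ f ⁻¹ᵁ U) (d : ℕ)
    (h : ∀ x : X, FlatMor.fibreDimAt f x = (d : WithBot ℕ∞)) :
    letI := (f.appLE U V e).hom.toAlgebra
    ∀ P, Module.rankAtStalk (R := Γ(X, V)) Ω[Γ(X, V)⁄Γ(S, U)] P = d := by
  letI := (f.appLE U V e).hom.toAlgebra
  haveI : Algebra.Smooth Γ(S, U) Γ(X, V) :=
    RingHom.smooth_algebraMap.mp (HasRingHomProperty.appLE @Smooth f ‹_› ⟨U, hU⟩ ⟨V, hV⟩ e)
  intro P
  have h1 := (Omega.SmoothFibreDim.fibreDimAt_appLE f hU hV e P).trans (h _)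
  erw [Omega.SmoothFibreDim.fibreDimAt_spec Γ(S, U) Γ(X, V) P] at h1
  exact_mod_cast h1

theorem smooth_of_isFinLocFreeOfRank {k : Type u} [Field k] {X Y : Scheme.{u}} (f : X ⟶ Y)
    (qY : Y ⟶ Spec (CommRingCat.of k)) [Smooth qY] [Smooth (f ≫ qY)] [QuasiSeparated f]
    (n d : ℕ) (hY : ∀ y, FlatMor.fibreDimAt qY y = (d : WithBot ℕ∞))
    (hX : ∀ x, FlatMor.fibreDimAt (f ≫ qY) x = ((d + n : ℕ) : WithBot ℕ∞))
    (hΩ : FlatMod.IsFinLocFreeOfRank n (Omega.sheaf f)) : Smooth f := by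
  rw [HasRingHomProperty.iff_exists_appLE (P := @Smooth) (RingHom.Smooth.stableUnderComposition.stableUnderCompositionWithLocalizationAway RingHom.Smooth.holdsForLocalizationAway).left]
  intro x
  obtain ⟨U, hxU, ⟨i⟩⟩ := hΩ x
  obtain ⟨W, hW, hxW⟩ := Omega.SmoothFibreDim.exists_mem (f x)
  obtain ⟨V, hV, hxV, hVle⟩ := Omega.SmoothFibreDim.exists_nhd (𝟙 X) x (V := U ⊓ f ⁻¹ᵁ W) ⟨hxU, hxW⟩
  have e : V ≤ f ⁻¹ᵁ W := fun z hz => (hVle hz).2
  refine ⟨⟨W, hW⟩, ⟨V, hV⟩, hxV, e, ?_⟩
  obtain ⟨b⟩ := Props.QProj.free_sections_of_restrict_iso (Omega.sheaf f) i hV fun z hz => (hVle hz).1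
  letI := (f.appLE W V e).hom.toAlgebra
  obtain ⟨j⟩ := Omega.LocalStructure.exists_tilde_iso (Omega.DiagUniv.isUniversal_dOmega f) hW hV e
  let eK : Ω[Γ(X, V)⁄Γ(Y, W)] ≃ₗ[Γ(X, V)] Γ(Omega.sheaf f, V) :=
    (tilde.isoTop (Omega.SpecDer.omegaMod Γ(Y, W) Γ(X, V))).toLinearEquiv ≪≫ₗ Props.QFP.topEquivOfIso j ≪≫ₗ
      QCoh.toSpecTopLinearEquiv hV (Omega.sheaf f)
  let bK := b.map eK.symm
  haveI : Module.Free Γ(X, V) Ω[Γ(X, V)⁄Γ(Y, W)] := .of_basis bK
  haveI : Module.Finite Γ(X, V) Ω[Γ(X, V)⁄Γ(Y, W)] := .of_basis bK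
  let K : Scheme.{u} := Spec (CommRingCat.of k)
  let T : K.Opens := ⊤
  have eW : W ≤ qY ⁻¹ᵁ T := fun _ _ => trivial
  have eV : V ≤ (f ≫ qY) ⁻¹ᵁ T := fun _ _ => trivial
  have hT : IsAffineOpen T := isAffineOpen_top _
  letI a1 := (qY.appLE T W eW).hom.toAlgebra
  letI a2 := ((f ≫ qY).appLE T V eV).hom.toAlgebra
  haveI : IsScalarTower Γ(K, T) Γ(Y, W) Γ(X, V) := IsScalarTower.of_algebraMap_eq fun c => by
    show (f ≫ qY).appLE T V eV c = (qY.appLE T W eW ≫ f.appLE W V e) c
    rw [Scheme.Hom.appLE_comp_appLE]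
  haveI : Algebra.Smooth Γ(K, T) Γ(Y, W) :=
    RingHom.smooth_algebraMap.mp (HasRingHomProperty.appLE @Smooth qY ‹_› ⟨T, hT⟩ ⟨W, hW⟩ eW)
  haveI : Algebra.Smooth Γ(K, T) Γ(X, V) :=
    RingHom.smooth_algebraMap.mp (HasRingHomProperty.appLE @Smooth (f ≫ qY) ‹_› ⟨T, hT⟩ ⟨V, hV⟩ eV)
  haveI : Nontrivial Γ(X, V) := (hV.primeIdealOf ⟨x, hxV⟩).nontrivial
  exact RingHom.smooth_algebraMap.mpr <| smooth_of_rank Γ(K, T) Γ(Y, W) Γ(X, V) n d
    ((Module.finrank_eq_card_basis bK).trans (Fintype.card_fin n)) (rankAtStalk_chart qY hT hW eW d hY)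
    (rankAtStalk_chart (f ≫ qY) hT hV eV (d + n) hX)

end Groth.Agent.TanSmooth
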