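import Mathlib.RingTheory.Smooth.Basic
import Mathlib.RingTheory.Kaehler.JacobiZariski
import Mathlib.RingTheory.LocalRing.Module
import Mathlib.RingTheory.LocalRing.ResidueField.Basic
import Mathlib.RingTheory.EssentialFiniteness
import Mathlib.RingTheory.Ideal.Cotangent

/-!
# Formal smoothness of maps of smooth local algebras with rational residue field

`R → S` formally smooth local algebras over a field `k` with residue fields `k`: `S` is formally smooth
over `R` iff the map of cotangent spaces is injective.
-/

set_option autoImplicit false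

universe u

open TensorProduct IsLocalRing KaehlerDifferential

namespace Groth.Agent.TanSmooth

variable {k : Type u} [Field k] {R S : Type u} [CommRing R] [CommRing S] [IsLocalRing R] [IsLocalRing S]
  [Algebra k R] [Algebra k S] [Algebra R S] [IsScalarTower k R S] [IsLocalHom (algebraMap R S)]

variable (k) in
/-- `x ↦ 1 ⊗ dx` on the bigger ring -/
theorem mem_sq_of_D_eq_zero (hres : Function.Surjective (algebraMap k (ResidueField S))) [Algebra.FormallySmooth k S]
    (x : S) (hx : x ∈ maximalIdeal S) (h : (1 : ResidueField S) ⊗ₜ[S] D k S x = 0) : x ∈ maximalIdeal S ^ 2 := by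
  have hbij : Function.Bijective (algebraMap k (ResidueField S)) := ⟨(algebraMap k (ResidueField S)).injective, hres⟩
  have : Algebra.FormallySmooth k (ResidueField S) :=
    Algebra.FormallySmooth.of_equiv (AlgEquiv.ofBijective (Algebra.ofId k (ResidueField S)) hbij)
  obtain ⟨l, hl⟩ := (Algebra.FormallySmooth.iff_split_injection (R := k) (P := S) (A := ResidueField S)
    (residue_surjective (R := S))).1 this
  have hker : RingHom.ker (algebraMap S (ResidueField S)) = maximalIdeal S := ker_residue
  let y : RingHom.ker (algebraMap S (ResidueField S)) := ⟨x, hker.symm ▸ hx⟩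
  have h0 : Ideal.toCotangent _ y = 0 := by
    have h1 : kerCotangentToTensor k S (ResidueField S) (Ideal.toCotangent _ y) = 0 :=
      (kerCotangentToTensor_toCotangent k S (ResidueField S) y).trans h
    have h2 := LinearMap.congr_fun hl (Ideal.toCotangent _ y)
    rw [LinearMap.comp_apply, h1, map_zero] at h2
    exact h2.symm
  rw [Ideal.toCotangent_eq_zero] at h0
  have h3 : x ∈ RingHom.ker (algebraMap S (ResidueField S)) ^ 2 := h0
  rwa [hker] at h3

omit [IsLocalRing R] [IsLocalHom (algebraMap R S)] in
variable (k R) in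
theorem exists_maximal_D (hR : ∀ r : R, ∃ c : k, ∃ r' : R, algebraMap k R c + r' = r ∧ algebraMap R S r' ∈ maximalIdeal S)
    (hres : Function.Surjective (algebraMap k (ResidueField S)))
    (z : ResidueField S ⊗[S] (S ⊗[R] Ω[R⁄k])) :
    ∃ x : R, algebraMap R S x ∈ maximalIdeal S ∧ z = (1 : ResidueField S) ⊗ₜ ((1 : S) ⊗ₜ D k R x) := by
  let g : R → ResidueField S ⊗[S] (S ⊗[R] Ω[R⁄k]) := fun x => (1 : ResidueField S) ⊗ₜ ((1 : S) ⊗ₜ D k R x)
  have hadd : ∀ x y, g (x + y) = g x + g y := fun x y => by simp [g, TensorProduct.tmul_add]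
  have hk : ∀ c : k, g (algebraMap k R c) = 0 := fun c => by simp [g]
  have hsmul : ∀ (c : k) x, g (algebraMap k R c * x) = algebraMap k (ResidueField S) c • g x := fun c x => by
    simp only [g, Derivation.leibniz, Derivation.map_algebraMap, smul_zero, add_zero]
    rw [TensorProduct.tmul_smul, ← algebraMap_smul S (algebraMap k R c),
      TensorProduct.tmul_smul, ← algebraMap_smul (ResidueField S) (algebraMap R S (algebraMap k R c)),
      ← IsScalarTower.algebraMap_apply, ← IsScalarTower.algebraMap_apply]
  suffices h : ∃ x : R, z = g x by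
    obtain ⟨x, rfl⟩ := h
    obtain ⟨c, r', hr, hm⟩ := hR x
    exact ⟨r', hm, by rw [← hr]; exact (hadd _ _).trans (by rw [hk, zero_add])⟩
  induction z with
  | zero => exact ⟨0, by simp [g]⟩
  | add a b ha hb =>
    obtain ⟨x, rfl⟩ := ha
    obtain ⟨y, rfl⟩ := hb
    exact ⟨x + y, (hadd x y).symm⟩
  | tmul q w =>
    obtain ⟨c, rfl⟩ := hres q
    induction w with
    | zero => exact ⟨0, by simp [g]⟩
    | add a b ha hb =>
      obtain ⟨x, hx⟩ := ha
      obtain ⟨y, hy⟩ := hb
      exact ⟨x + y, by rw [TensorProduct.tmul_add, hx, hy, hadd]⟩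
    | tmul s ω =>
      obtain ⟨c', hc'⟩ := hres (algebraMap S (ResidueField S) s)
      have hω : ω ∈ Submodule.span R (Set.range (D k R)) := by rw [span_range_derivation]; trivial
      have e : algebraMap k (ResidueField S) c ⊗ₜ[S] (s ⊗ₜ[R] ω) =
          algebraMap k (ResidueField S) (c * c') • ((1 : ResidueField S) ⊗ₜ[S] ((1 : S) ⊗ₜ[R] ω)) := by
        rw [show s ⊗ₜ[R] ω = s • ((1 : S) ⊗ₜ[R] ω) by rw [TensorProduct.smul_tmul', smul_eq_mul, mul_one],
          TensorProduct.tmul_smul, ← algebraMap_smul (ResidueField S) s, TensorProduct.smul_tmul',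
          TensorProduct.smul_tmul', smul_eq_mul, smul_eq_mul, mul_one, map_mul, hc', mul_comm]
      suffices h : ∃ x, (1 : ResidueField S) ⊗ₜ[S] ((1 : S) ⊗ₜ[R] ω) = g x by
        obtain ⟨x, hx⟩ := h
        exact ⟨algebraMap k R (c * c') * x, by rw [e, hx, hsmul]⟩
      clear e
      induction hω using Submodule.span_induction with
      | mem v hv =>
        obtain ⟨x, rfl⟩ := hv
        exact ⟨x, rfl⟩
      | zero => exact ⟨0, by simp [g]⟩
      | add a b _ _ ha hb =>
        obtain ⟨x, hx⟩ := ha
        obtain ⟨y, hy⟩ := hb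
        exact ⟨x + y, by rw [TensorProduct.tmul_add, TensorProduct.tmul_add, hx, hy, hadd]⟩
      | smul r v _ hv =>
        obtain ⟨x, hx⟩ := hv
        obtain ⟨d, hd⟩ := hres (algebraMap S (ResidueField S) (algebraMap R S r))
        refine ⟨algebraMap k R d * x, ?_⟩
        rw [TensorProduct.tmul_smul, ← algebraMap_smul S r, TensorProduct.tmul_smul,
          ← algebraMap_smul (ResidueField S) (algebraMap R S r), ← hd, hx, hsmul]

/-- residues of `R` are constants -/
theorem exists_const (hresR : Function.Surjective (algebraMap k (ResidueField R))) (r : R) :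
    ∃ c : k, ∃ r' : R, algebraMap k R c + r' = r ∧ algebraMap R S r' ∈ maximalIdeal S := by
  obtain ⟨c, hc⟩ := hresR (residue R r)
  refine ⟨c, r - algebraMap k R c, by ring, ?_⟩
  have h : r - algebraMap k R c ∈ maximalIdeal R := by
    rw [← residue_eq_zero_iff, map_sub, ← hc, IsScalarTower.algebraMap_apply k R (ResidueField R)]
    exact sub_eq_zero.2 rfl
  exact map_nonunit (algebraMap R S) _ h

variable (k R S) in
theorem formallySmooth_of_injective [Algebra.FormallySmooth k R] [Algebra.FormallySmooth k S]
    [Algebra.EssFiniteType k R] [Algebra.EssFiniteType k S]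
    (hresR : Function.Surjective (algebraMap k (ResidueField R)))
    (hresS : Function.Surjective (algebraMap k (ResidueField S)))
    (hinj : ∀ x ∈ maximalIdeal R, algebraMap R S x ∈ maximalIdeal S ^ 2 → x ∈ maximalIdeal R ^ 2) :
    Algebra.FormallySmooth R S := by
  let α := KaehlerDifferential.mapBaseChange k R S
  have hsplit : ∃ l, l ∘ₗ α = LinearMap.id := by
    have : Module.Free S Ω[S⁄k] := Module.free_of_flat_of_isLocalRing
    rw [IsLocalRing.split_injective_iff_lTensor_residueField_injective, injective_iff_map_eq_zero]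
    intro z hz
    obtain ⟨x, hxS, rfl⟩ := exists_maximal_D k R (exists_const hresR) hresS z
    have hxR : x ∈ maximalIdeal R := by
      by_contra hx
      exact hxS ((IsLocalRing.notMem_maximalIdeal.1 hx).map (algebraMap R S))
    rw [LinearMap.lTensor_tmul, KaehlerDifferential.mapBaseChange_tmul, one_smul, KaehlerDifferential.map_D] at hz
    have h2 := hinj x hxR (mem_sq_of_D_eq_zero k hresS _ hxS hz)
    have hz0 : ∀ a ∈ maximalIdeal R, ∀ v : Ω[R⁄k],
        (1 : ResidueField S) ⊗ₜ[S] ((1 : S) ⊗ₜ[R] (a • v)) = 0 := fun a ha v => by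
      have : algebraMap S (ResidueField S) (algebraMap R S a) = 0 :=
        (residue_eq_zero_iff _).2 (map_nonunit (algebraMap R S) a ha)
      rw [TensorProduct.tmul_smul, ← algebraMap_smul S a, TensorProduct.tmul_smul,
        ← algebraMap_smul (ResidueField S) (algebraMap R S a), this, zero_smul]
    rw [pow_two] at h2
    refine Submodule.mul_induction_on h2
      (fun a ha b hb => ?_) (fun a b ha hb => ?_)
    · simp only [Derivation.leibniz, TensorProduct.tmul_add]
      rw [hz0 a ha, hz0 b hb, add_zero]
    · simp only [map_add, TensorProduct.tmul_add, ha, hb, add_zero]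
  obtain ⟨l, hl⟩ := hsplit
  have hinjα : Function.Injective α := Function.LeftInverse.injective (fun z => LinearMap.congr_fun hl z)
  rw [Algebra.formallySmooth_iff]
  refine ⟨?_, ?_⟩
  · let π := KaehlerDifferential.map k R S S
    have hπ : Function.Surjective π := KaehlerDifferential.map_surjective k R S
    have hex : Function.Exact α π := KaehlerDifferential.exact_mapBaseChange_map k R S
    obtain ⟨-, s, hs⟩ := (hex.split_tfae'.out 1 0 rfl rfl).1 ⟨hπ, l, hl⟩
    exact Module.Projective.of_split s π hs
  · refine subsingleton_of_forall_eq 0 fun z => ?_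
    have hδ : Algebra.H1Cotangent.δ k R S z = 0 :=
      hinjα (((Algebra.H1Cotangent.exact_δ_mapBaseChange k R S _).2 ⟨z, rfl⟩).trans (map_zero α).symm)
    obtain ⟨w, hw⟩ := (Algebra.H1Cotangent.exact_map_δ k R S z).1 hδ
    rw [← hw, Subsingleton.elim w 0, map_zero]

variable (k R S) in
theorem injective_of_formallySmooth [Algebra.FormallySmooth k R] [Algebra.FormallySmooth R S]
    [Algebra.FormallySmooth k S] [Algebra.EssFiniteType k R] [Algebra.EssFiniteType k S]
    (hresR : Function.Surjective (algebraMap k (ResidueField R)))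
    (hresS : Function.Surjective (algebraMap k (ResidueField S)))
    (x : R) (hx : x ∈ maximalIdeal R) (hx2 : algebraMap R S x ∈ maximalIdeal S ^ 2) :
    x ∈ maximalIdeal R ^ 2 := by
  refine mem_sq_of_D_eq_zero k hresR x hx ?_
  have hD0 : (1 : ResidueField S) ⊗ₜ[S] D k S (algebraMap R S x) = 0 := by
    have key : ∀ a ∈ maximalIdeal S, ∀ v : Ω[S⁄k], (1 : ResidueField S) ⊗ₜ[S] (a • v) = 0 := fun a ha v => by
      rw [TensorProduct.tmul_smul, ← algebraMap_smul (ResidueField S) a,
        show algebraMap S (ResidueField S) a = 0 from (residue_eq_zero_iff _).2 ha, zero_smul]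
    rw [pow_two] at hx2
    refine Submodule.mul_induction_on hx2 (fun a ha b hb => ?_) (fun a b ha hb => ?_)
    · simp only [Derivation.leibniz, TensorProduct.tmul_add]
      rw [key a ha, key b hb, add_zero]
    · simp only [map_add, TensorProduct.tmul_add, ha, hb, add_zero]
  let α := KaehlerDifferential.mapBaseChange k R S
  have hαinj : Function.Injective α := by
    rw [injective_iff_map_eq_zero]
    intro z hz
    obtain ⟨w, rfl⟩ := (Algebra.H1Cotangent.exact_δ_mapBaseChange k R S z).1 hz
    rw [Subsingleton.elim w 0, map_zero]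
  have hπ : Function.Surjective (KaehlerDifferential.map k R S S) := KaehlerDifferential.map_surjective k R S
  have hex : Function.Exact α (KaehlerDifferential.map k R S S) := KaehlerDifferential.exact_mapBaseChange_map k R S
  have hsplit : ∃ l, l ∘ₗ α = LinearMap.id := by
    obtain ⟨s, hs⟩ := Module.projective_lifting_property (KaehlerDifferential.map k R S S) LinearMap.id hπ
    exact ((hex.split_tfae'.out 0 1 rfl rfl).1 ⟨hαinj, s, hs⟩).2
  obtain ⟨l, hl⟩ := hsplit
  have h1 : (1 : ResidueField S) ⊗ₜ[S] ((1 : S) ⊗ₜ[R] D k R x) = 0 := by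
    have h := congrArg (l.lTensor (ResidueField S)) hD0
    rw [map_zero, LinearMap.lTensor_tmul] at h
    have e : α ((1 : S) ⊗ₜ[R] D k R x) = D k S (algebraMap R S x) := by
      simp [α, KaehlerDifferential.mapBaseChange_tmul, KaehlerDifferential.map_D]
    rwa [← e, show l (α ((1 : S) ⊗ₜ[R] D k R x)) = (1 : S) ⊗ₜ[R] D k R x from LinearMap.congr_fun hl _] at h
  have h2 : (1 : ResidueField S) ⊗ₜ[R] D k R x = 0 := by
    have h := congrArg (TensorProduct.AlgebraTensorModule.cancelBaseChange R S S (ResidueField S) Ω[R⁄k]) h1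
    rwa [map_zero, TensorProduct.AlgebraTensorModule.cancelBaseChange_tmul, one_smul] at h
  let φ : ResidueField R →ₐ[R] ResidueField S :=
    { IsLocalRing.ResidueField.map (algebraMap R S) with
      commutes' := fun r => by
        show IsLocalRing.ResidueField.map (algebraMap R S) (residue R r) = _
        rw [IsLocalRing.ResidueField.map_residue]
        rfl }
  have hφ : Function.Bijective φ := by
    refine ⟨φ.toRingHom.injective, fun q => ?_⟩
    obtain ⟨c, rfl⟩ := hresS q
    refine ⟨algebraMap k (ResidueField R) c, ?_⟩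
    rw [IsScalarTower.algebraMap_apply k R (ResidueField R), AlgHom.commutes,
      IsScalarTower.algebraMap_apply R S (ResidueField S), ← IsScalarTower.algebraMap_apply k R S,
      ← IsScalarTower.algebraMap_apply k S (ResidueField S)]
  let e := LinearEquiv.ofBijective φ.toLinearMap hφ
  have h3 := congrArg (LinearMap.rTensor Ω[R⁄k] (e.symm : ResidueField S →ₗ[R] ResidueField R)) h2
  rw [map_zero, LinearMap.rTensor_tmul] at h3
  rwa [show (e.symm : ResidueField S →ₗ[R] ResidueField R) 1 = 1 from
    e.symm_apply_eq.2 (map_one φ).symm] at h3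

end Groth.Agent.TanSmooth
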